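import Mathlib
import Cfsg.Agent.Lib.J4Rep72.Check
import Cfsg.Agent.Lib.J4Low8.Data

/-! Products of the packed matrices, checked in the kernel. -/

namespace Cfsg.Agent.Lib.J4Low8

open Cfsg.Agent.Lib.J4Rep72

/-- rows of a packed matrix -/
noncomputable def unpack (n : ℕ) : List ℕ :=
  (List.range 112).map fun i => (n >>> (112 * i)) % 2 ^ 112

/-- the matrix with a given index -/
noncomputable def mat (n : ℕ) : List ℕ :=
  unpack ((packs.getD (n / 40) []).getD (n % 40) 0)

theorem len_mat (n : ℕ) : (mat n).length = 112 := by simp [mat, unpack]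

/-- equality of lists of numbers -/
noncomputable def eqL (A : List ℕ) : List ℕ → Bool :=
  List.rec (motive := fun _ => List ℕ → Bool)
    (fun L => List.rec (motive := fun _ => Bool) true (fun _ _ _ => false) L)
    (fun a _ ih L => List.rec (motive := fun _ => Bool) false (fun b bs _ => Nat.beq a b && ih bs) L)
    A

theorem eq_of_eqL {A L : List ℕ} (h : eqL A L = true) : A = L := by
  unfold eqL at h
  induction A generalizing L with
  | nil => cases L <;> simp_all
  | cons a A ih =>
    cases L with
    | nil => simp at h
    | cons b L =>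
      simp only [Bool.and_eq_true] at h
      rw [Nat.eq_of_beq_eq_true h.1, ih h.2]

/-- step `n` is correct and only uses earlier matrices -/
noncomputable def stepOk (n : ℕ) : Bool :=
  let s := steps.getD n (true, 0, 0)
  if s.1 then
    Nat.ble (s.2.1 + 1) (5 + n) && Nat.ble (s.2.2 + 1) (5 + n) &&
      eqL (mulM (mat s.2.1) (mat s.2.2)) (mat (5 + n))
  else Nat.ble (s.2.1 + 1) (5 + n) && eqL (mulM (mat s.2.1) (mat (5 + n))) oneM

theorem base0 : eqL (mat 0) oneM = true := by decide +kernel
theorem base1 : eqL (mat 1) (matLet 0) = true := by decide +kernel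
theorem base2 : eqL (mat 2) (matLet 1) = true := by decide +kernel
theorem base3 : eqL (mat 3) (matLet 2) = true := by decide +kernel
theorem base4 : eqL (mat 4) (matLet 3) = true := by decide +kernel

theorem steps0 : ((List.range' 0 56).all stepOk) = true := by decide +kernel
theorem steps1 : ((List.range' 56 56).all stepOk) = true := by decide +kernel
theorem steps2 : ((List.range' 112 56).all stepOk) = true := by decide +kernel
theorem steps3 : ((List.range' 168 56).all stepOk) = true := by decide +kernel

/-- the `p`-th power of a matrix is the identity and the matrix is not -/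
noncomputable def ordOk (p i : ℕ) : Bool :=
  eqL (wordM mat (List.replicate p i)) oneM && !(eqL (mat i) oneM)

theorem orders : (ordOk 29 i29 && ordOk 31 i31 && ordOk 37 i37 && ordOk 43 i43 &&
    ordOk 11 iA && ordOk 11 iB && ordOk 11 iK) = true := by decide +kernel

theorem relations :
    (eqL (mulM (mat iA) (mat iK)) (mulM (mat iK) (mat iA)) &&
      eqL (mulM (mat iB) (mat iK)) (mulM (mat iK) (mat iB)) &&
      eqL (mulM (mat iA) (mat iB)) (mulM (mulM (mat iB) (mat iA)) (mat iK))) = true := by
  decide +kernel

end Cfsg.Agent.Lib.J4Low8
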