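import Mathlib

/-! A non-abelian section of order `p ^ 3`. -/

set_option autoImplicit false

namespace Cfsg.Agent.Lib.J4Low8

/-- two elements of order `p` whose commutator has order `p` and is central in the group they
generate give a subgroup of order divisible by `p ^ 3` -/
theorem pow_three_dvd_card {G : Type*} [Group G] [Finite G] {p : ℕ} (hp : p.Prime) {a b k : G}
    (ha : orderOf a = p) (hb : orderOf b = p) (hk : orderOf k = p) (hak : a * k = k * a)
    (hbk : b * k = k * b) (hab : a * b = b * a * k) : p ^ 3 ∣ Nat.card G := by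
  have : Fact p.Prime := ⟨hp⟩
  have hk1 : k ≠ 1 := fun h => hp.ne_one (by rw [← hk, h, orderOf_one])
  have hA : IsPGroup p (Subgroup.zpowers a) :=
    IsPGroup.of_card (n := 1) (by rw [Nat.card_zpowers, ha, pow_one])
  have hB : IsPGroup p (Subgroup.zpowers b) :=
    IsPGroup.of_card (n := 1) (by rw [Nat.card_zpowers, hb, pow_one])
  have hK : IsPGroup p (Subgroup.zpowers k) :=
    IsPGroup.of_card (n := 1) (by rw [Nat.card_zpowers, hk, pow_one])
  set S := Subgroup.zpowers a ⊔ Subgroup.zpowers k with hS
  have haS : a ∈ S := Subgroup.mem_sup_left (Subgroup.mem_zpowers a)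
  have hkS : k ∈ S := Subgroup.mem_sup_right (Subgroup.mem_zpowers k)
  have hSab : S ≤ Subgroup.centralizer ({k} : Set G) := by
    refine sup_le ?_ ?_ <;> rw [Subgroup.zpowers_le, Subgroup.mem_centralizer_singleton_iff]
    exact hak
  -- `a` commutes with all of `S`
  have hSa : S ≤ Subgroup.centralizer ({a} : Set G) := by
    refine sup_le ?_ ?_ <;> rw [Subgroup.zpowers_le, Subgroup.mem_centralizer_singleton_iff]
    exact hak.symm
  have hkna : k ∉ Subgroup.zpowers a := by
    intro h
    obtain ⟨i, hi⟩ := Subgroup.mem_zpowers_iff.mp h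
    -- then `a` is a power of `k`, so it commutes with `b`
    have hle : Subgroup.zpowers k ≤ Subgroup.zpowers a := Subgroup.zpowers_le.mpr h
    have heq : Subgroup.zpowers k = Subgroup.zpowers a :=
      Subgroup.eq_of_le_of_card_ge hle (by rw [Nat.card_zpowers, Nat.card_zpowers, ha, hk])
    have : a ∈ Subgroup.centralizer ({b} : Set G) := by
      have hle' : Subgroup.zpowers a ≤ Subgroup.centralizer ({b} : Set G) := by
        rw [← heq, Subgroup.zpowers_le, Subgroup.mem_centralizer_singleton_iff]
        exact hbk.symm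
      exact hle' (Subgroup.mem_zpowers a)
    rw [Subgroup.mem_centralizer_singleton_iff] at this
    exact hk1 (by simpa using (hab.symm.trans this).trans (mul_one _).symm)
  have hPS : IsPGroup p S := hA.to_sup_of_normal_right' hK (by
    rw [Subgroup.zpowers_le, Subgroup.mem_normalizer_iff]
    intro h
    constructor
    · intro hh
      have hc : a * h * a⁻¹ = h := by
        obtain ⟨i, rfl⟩ := Subgroup.mem_zpowers_iff.mp hh
        rw [(Commute.zpow_right hak i).eq, mul_inv_cancel_right]
      rw [hc]; exact hh
    · intro hh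
      obtain ⟨i, hi⟩ := Subgroup.mem_zpowers_iff.mp hh
      have hc : h = k ^ i := by
        have h1 : a * h = k ^ i * a := by rw [hi]; group
        rw [← (Commute.zpow_right hak i).eq] at h1
        exact mul_left_cancel h1
      rw [hc]; exact Subgroup.zpow_mem _ (Subgroup.mem_zpowers k) i)
  have hbS : b ∉ S := fun h => hk1 (by
    have h1 := Subgroup.mem_centralizer_singleton_iff.mp (hSa h)
    exact (mul_eq_left.mp (hab.symm.trans h1.symm)))
  have hnorm : Subgroup.zpowers b ≤ Subgroup.normalizer (S : Set G) := by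
    rw [Subgroup.zpowers_le]
    have hmap : S.map (MulAut.conj b).toMonoidHom ≤ S := by
      rw [hS, Subgroup.map_sup, MonoidHom.map_zpowers, MonoidHom.map_zpowers]
      refine sup_le ?_ ?_ <;> rw [Subgroup.zpowers_le]
      · have h1 : (MulAut.conj b).toMonoidHom a = a * k⁻¹ := by
          show b * a * b⁻¹ = a * k⁻¹
          rw [eq_mul_inv_iff_mul_eq, mul_assoc (b * a)]
          calc b * a * (b⁻¹ * k) = b * a * (k * b⁻¹) := by
                rw [(Commute.inv_left hbk).eq]
            _ = (b * a * k) * b⁻¹ := by group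
            _ = a * b * b⁻¹ := by rw [hab]
            _ = a := mul_inv_cancel_right a b
        rw [h1]; exact S.mul_mem haS (S.inv_mem hkS)
      · have h1 : (MulAut.conj b).toMonoidHom k = k := by
          show b * k * b⁻¹ = k
          rw [hbk, mul_inv_cancel_right]
        rw [h1]; exact hkS
    have heq : S.map (MulAut.conj b).toMonoidHom = S :=
      Subgroup.eq_of_le_of_card_ge hmap (le_of_eq
        (Subgroup.card_map_of_injective (MulAut.conj b).injective).symm)
    rw [Subgroup.mem_normalizer_iff]
    intro h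
    conv_rhs => rw [← heq]
    exact (Subgroup.mem_map_iff_mem (MulAut.conj b).injective).symm
  have hT : IsPGroup p (Subgroup.zpowers b ⊔ S : Subgroup G) := hB.to_sup_of_normal_right' hPS hnorm
  obtain ⟨n, hn⟩ := IsPGroup.iff_card.mp hPS
  obtain ⟨m, hm⟩ := IsPGroup.iff_card.mp hT
  have h1 : Nat.card (Subgroup.zpowers a) < Nat.card S :=
    lt_of_le_of_ne (Subgroup.card_le_of_le le_sup_left) fun e =>
      hkna ((Subgroup.eq_of_le_of_card_ge le_sup_left e.ge) ▸ hkS)
  have h2 : Nat.card S < Nat.card (Subgroup.zpowers b ⊔ S : Subgroup G) :=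
    lt_of_le_of_ne (Subgroup.card_le_of_le le_sup_right) fun e =>
      hbS ((Subgroup.eq_of_le_of_card_ge le_sup_right e.ge).symm ▸
        Subgroup.mem_sup_left (Subgroup.mem_zpowers b))
  rw [Nat.card_zpowers, ha, hn] at h1
  rw [hn, hm] at h2
  have hn2 : 1 < n := (Nat.pow_lt_pow_iff_right hp.one_lt).mp (by rwa [pow_one])
  have hm3 : n < m := (Nat.pow_lt_pow_iff_right hp.one_lt).mp h2
  have h3 := Subgroup.card_subgroup_dvd_card (Subgroup.zpowers b ⊔ S : Subgroup G)
  rw [hm] at h3
  exact (pow_dvd_pow p (by omega)).trans h3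

end Cfsg.Agent.Lib.J4Low8
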