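import Mathlib
import Cfsg.Agent.Lib.J4Rep72.Rep
import Cfsg.Agent.Lib.J4Low8.Check
import Cfsg.Agent.Lib.J4Low8.Group

/-!
A finite image of the presented Janko group `J₄` of order divisible by `11 ^ 3 * 29 * 31 * 37 * 43`.
-/

set_option autoImplicit false

namespace Cfsg.Agent.Lib.J4Low8

open Cfsg.Spor Cfsg.Agent.Lib.J4Rep72

/-- the generator `x` -/
abbrev jx : J4 := PresentedGroup.of J4.Gen.x

/-- the generator `y` -/
abbrev jy : J4 := PresentedGroup.of J4.Gen.y

/-- the generator `t` -/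
abbrev jt : J4 := PresentedGroup.of J4.Gen.t

/-- the word `w = (y x) ^ 4 * y⁻¹ * x` -/
abbrev jw : J4 := (jy * jx) ^ 4 * jy⁻¹ * jx

/-- the element `u = (y * t ^ w) ^ 3` -/
abbrev ju : J4 := (jy * (jw⁻¹ * jt * jw)) ^ 3

/-- the finite image -/
noncomputable abbrev img : Subgroup (Matrix (Fin 112) (Fin 112) (ZMod 2))ˣ := rep.range

instance : Finite img := inferInstance

attribute [local irreducible] toMat mat matLet

theorem rep_letters :
    ((rep jx : (Matrix (Fin 112) (Fin 112) (ZMod 2))ˣ) : Matrix (Fin 112) (Fin 112) (ZMod 2)) =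
        toMat (mat 1) ∧
      ((rep jy : (Matrix (Fin 112) (Fin 112) (ZMod 2))ˣ) : Matrix (Fin 112) (Fin 112) (ZMod 2)) =
        toMat (mat 2) ∧
      (((rep jy)⁻¹ : (Matrix (Fin 112) (Fin 112) (ZMod 2))ˣ) : Matrix (Fin 112) (Fin 112) (ZMod 2)) =
        toMat (mat 3) ∧
      ((rep jt : (Matrix (Fin 112) (Fin 112) (ZMod 2))ˣ) : Matrix (Fin 112) (Fin 112) (ZMod 2)) =
        toMat (mat 4) := by
  have e : ∀ g, rep (PresentedGroup.of g : J4) = unitGen g := fun g =>
    PresentedGroup.toGroup.of rels_one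
  rw [eq_of_eqL base1, eq_of_eqL base2, eq_of_eqL base3, eq_of_eqL base4]
  refine ⟨?_, ?_, ?_, ?_⟩
  · rw [e]; exact coe_letVal (l := 0) (by omega)
  · rw [e]; exact coe_letVal (l := 1) (by omega)
  · rw [e]; exact coe_letVal (l := 2) (by omega)
  · rw [e]; exact coe_letVal (l := 3) (by omega)

theorem stepOk_of_lt {n : ℕ} (hn : n < 224) : stepOk n = true := by
  rcases Nat.lt_or_ge n 56 with h | h
  · exact List.all_eq_true.1 steps0 n (List.mem_range'_1.2 (by omega))
  rcases Nat.lt_or_ge n 112 with h' | h'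
  · exact List.all_eq_true.1 steps1 n (List.mem_range'_1.2 (by omega))
  rcases Nat.lt_or_ge n 168 with h'' | h''
  · exact List.all_eq_true.1 steps2 n (List.mem_range'_1.2 (by omega))
  · exact List.all_eq_true.1 steps3 n (List.mem_range'_1.2 (by omega))

/-- every matrix of the list is in the image -/
theorem mem_img : ∀ n, n < 229 → ∃ g : img,
    ((g : (Matrix (Fin 112) (Fin 112) (ZMod 2))ˣ) : Matrix (Fin 112) (Fin 112) (ZMod 2)) =
      toMat (mat n) := by
  intro n
  induction n using Nat.strong_induction_on with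
  | _ n ih =>
    intro hn
    obtain ⟨ex, ey, ey', et⟩ := rep_letters
    rcases Nat.lt_or_ge n 5 with h5 | h5
    · interval_cases n
      · exact ⟨1, by rw [eq_of_eqL base0, toMat_oneM]; rfl⟩
      · exact ⟨⟨rep jx, jx, rfl⟩, ex⟩
      · exact ⟨⟨rep jy, jy, rfl⟩, ey⟩
      · exact ⟨⟨rep jy, jy, rfl⟩⁻¹, ey'⟩
      · exact ⟨⟨rep jt, jt, rfl⟩, et⟩
    obtain ⟨m, rfl⟩ : ∃ m, n = 5 + m := ⟨n - 5, by omega⟩
    have hs := stepOk_of_lt (show m < 224 by omega)
    unfold stepOk at hs
    generalize hst : steps.getD m (true, 0, 0) = s at hs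
    obtain ⟨kd, i, j⟩ := s
    simp only at hs
    cases kd with
    | true =>
      simp only [if_true, Bool.and_eq_true, Nat.ble_eq] at hs
      obtain ⟨⟨hi, hj⟩, he⟩ := hs
      obtain ⟨g, hg⟩ := ih i (by omega) (by omega)
      obtain ⟨h, hh⟩ := ih j (by omega) (by omega)
      refine ⟨g * h, ?_⟩
      rw [← eq_of_eqL he, toMat_mulM (len_mat j), ← hg, ← hh]
      rfl
    | false =>
      simp only [Bool.false_eq_true, if_false, Bool.and_eq_true, Nat.ble_eq] at hs
      obtain ⟨hi, he⟩ := hs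
      obtain ⟨g, hg⟩ := ih i (by omega) (by omega)
      refine ⟨g⁻¹, ?_⟩
      have h1 : toMat (mat i) * toMat (mat (5 + m)) = 1 := by
        rw [← toMat_mulM (len_mat _), eq_of_eqL he, toMat_oneM]
      rw [← hg] at h1
      rw [Subgroup.coe_inv]
      exact Units.inv_eq_of_mul_eq_one_right h1

/-- packed matrices determine the rows -/
theorem toMat_inj {A B : List ℕ} (hA : A.length = 112) (hB : B.length = 112)
    (hAb : ∀ r ∈ A, r < 2 ^ 112) (hBb : ∀ r ∈ B, r < 2 ^ 112) (h : toMat A = toMat B) : A = B := by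
  refine List.ext_getElem (hA.trans hB.symm) fun i h1 h2 => Nat.eq_of_testBit_eq fun j => ?_
  rcases Nat.lt_or_ge j 112 with hj | hj
  · have := congrFun (congrFun h ⟨i, hA ▸ h1⟩) ⟨j, hj⟩
    unfold toMat at this
    rw [List.getD_eq_getElem _ _ h1, List.getD_eq_getElem _ _ h2] at this
    revert this
    cases A[i].testBit j <;> cases B[i].testBit j <;> simp [bitZ]
  · rw [Nat.testBit_lt_two_pow ((hAb _ (List.getElem_mem h1)).trans_le (Nat.pow_le_pow_right two_pos hj)),
      Nat.testBit_lt_two_pow ((hBb _ (List.getElem_mem h2)).trans_le (Nat.pow_le_pow_right two_pos hj))]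

theorem mat_lt (n : ℕ) : ∀ r ∈ mat n, r < 2 ^ 112 := by
  intro r hr
  unfold mat unpack at hr
  obtain ⟨i, -, rfl⟩ := List.mem_map.1 hr
  exact Nat.mod_lt _ (by positivity)

theorem oneM_lt : ∀ r ∈ oneM, r < 2 ^ 112 := by
  intro r hr
  unfold oneM at hr
  obtain ⟨i, hi, rfl⟩ := List.mem_map.1 hr
  exact Nat.pow_lt_pow_right one_lt_two (List.mem_range.1 hi)

theorem eqL_refl (A : List ℕ) : eqL A A = true := by
  induction A with
  | nil => rfl
  | cons a A ih =>
    show (Nat.beq a a && eqL A A) = true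
    rw [ih, Nat.beq_refl]; rfl

/-- the element with the given matrix has prime order -/
theorem orderOf_eq {p i : ℕ} (hp : p.Prime) (hi : ordOk p i = true) (g : img)
    (hg : ((g : (Matrix (Fin 112) (Fin 112) (ZMod 2))ˣ) : Matrix (Fin 112) (Fin 112) (ZMod 2)) =
      toMat (mat i)) : orderOf g = p := by
  unfold ordOk at hi
  rw [Bool.and_eq_true, Bool.not_eq_true'] at hi
  have : Fact p.Prime := ⟨hp⟩
  refine orderOf_eq_prime ?_ ?_
  · apply Subtype.ext
    apply Units.ext
    have h := (toMat_wordM len_mat (List.replicate p i)).2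
    rw [eq_of_eqL hi.1, toMat_oneM, List.map_replicate, List.prod_replicate, ← hg] at h
    simpa using h.symm
  · intro h1
    rw [h1] at hg
    have h2 : toMat (mat i) = toMat oneM := by rw [toMat_oneM, ← hg]; rfl
    have h3 := toMat_inj (len_mat i) (by simp [oneM]) (mat_lt i) oneM_lt h2
    rw [h3, eqL_refl] at hi
    exact absurd hi.2 (by decide)

theorem index_lt : iA < 229 ∧ iB < 229 ∧ iK < 229 ∧ i29 < 229 ∧ i31 < 229 ∧ i37 < 229 ∧ i43 < 229 := by
  decide

/-- the image of the presented group has order divisible by `11 ^ 3 * 29 * 31 * 37 * 43` -/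
theorem dvd_card_img : 11 ^ 3 * 29 * 31 * 37 * 43 ∣ Nat.card img := by
  obtain ⟨h1, h2, h3, h4, h5, h6, h7⟩ := index_lt
  have ho := orders
  simp only [Bool.and_eq_true] at ho
  obtain ⟨⟨⟨⟨⟨⟨o29, o31⟩, o37⟩, o43⟩, oA⟩, oB⟩, oK⟩ := ho
  have hr := relations
  simp only [Bool.and_eq_true] at hr
  obtain ⟨⟨rak, rbk⟩, rab⟩ := hr
  have hd : ∀ p i, p.Prime → i < 229 → ordOk p i = true → p ∣ Nat.card img := by
    intro p i hp hi ho
    obtain ⟨g, hg⟩ := mem_img i hi
    rw [← orderOf_eq hp ho g hg]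
    exact orderOf_dvd_natCard g
  have d29 := hd 29 _ (by norm_num) h4 o29
  have d31 := hd 31 _ (by norm_num) h5 o31
  have d37 := hd 37 _ (by norm_num) h6 o37
  have d43 := hd 43 _ (by norm_num) h7 o43
  obtain ⟨a, ha⟩ := mem_img _ h1
  obtain ⟨b, hb⟩ := mem_img _ h2
  obtain ⟨k, hk⟩ := mem_img _ h3
  have d11 : 11 ^ 3 ∣ Nat.card img := by
    refine pow_three_dvd_card (by norm_num) (orderOf_eq (by norm_num) oA a ha)
      (orderOf_eq (by norm_num) oB b hb) (orderOf_eq (by norm_num) oK k hk) ?_ ?_ ?_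
    all_goals apply Subtype.ext; apply Units.ext
    all_goals simp only [Subgroup.coe_mul, Units.val_mul, ha, hb, hk]
    · rw [← toMat_mulM (len_mat _), ← toMat_mulM (len_mat _), eq_of_eqL rak]
    · rw [← toMat_mulM (len_mat _), ← toMat_mulM (len_mat _), eq_of_eqL rbk]
    · rw [← toMat_mulM (len_mat _), ← toMat_mulM (len_mat _), ← toMat_mulM (len_mat _), eq_of_eqL rab]
  refine Nat.Coprime.mul_dvd_of_dvd_of_dvd (by norm_num) ?_ d43
  refine Nat.Coprime.mul_dvd_of_dvd_of_dvd (by norm_num) ?_ d37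
  refine Nat.Coprime.mul_dvd_of_dvd_of_dvd (by norm_num) ?_ d31
  exact Nat.Coprime.mul_dvd_of_dvd_of_dvd (by norm_num) d11 d29

/-- the letters of `u`, as indices -/
def uIdx : List ℕ :=
  let w := [2, 1, 2, 1, 2, 1, 2, 1, 3, 1]
  let v := [1, 2, 1, 3, 1, 3, 1, 3, 1, 3]
  (List.replicate 3 ([2] ++ v ++ [4] ++ w)).flatten

theorem u_check : ((wordM mat uIdx).getD 0 0).testBit 3 = true := by decide +kernel

/-- value of an index among the first five matrices -/
def letter5 {M : Type*} [Monoid M] (x y y' t : M) (i : ℕ) : M :=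
  if i = 1 then x else if i = 2 then y else if i = 3 then y' else if i = 4 then t else 1

set_option maxRecDepth 8000 in
theorem u_word {G : Type*} [Group G] (x y t : G) (hx : x⁻¹ = x) :
    (y * (((y * x) ^ 4 * y⁻¹ * x)⁻¹ * t * ((y * x) ^ 4 * y⁻¹ * x))) ^ 3 =
      (uIdx.map (letter5 x y y⁻¹ t)).prod := by
  simp [uIdx, letter5, pow_succ, hx, mul_assoc, List.replicate]

theorem uIdx_small : ∀ i ∈ uIdx, i = 1 ∨ i = 2 ∨ i = 3 ∨ i = 4 := by decide

theorem hx_inv : (rep jx)⁻¹ = rep jx := by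
  rw [inv_eq_iff_mul_eq_one, ← map_mul]
  have hxx : (PresentedGroup.of J4.Gen.x : J4) * PresentedGroup.of J4.Gen.x = 1 := by
    have := PresentedGroup.one_of_mem (rels := coxRelators J4.edges ∪ {r | r ∈ J4.extra})
      (x := J4.x ^ 2) (Or.inr (List.mem_cons_self ..))
    rwa [map_pow, pow_two] at this
  rw [hxx, map_one]

set_option maxRecDepth 8000 in
theorem map_ju {H : Type*} [Group H] (f : J4 →* H) : f ju =
    (f jy * (((f jy * f jx) ^ 4 * (f jy)⁻¹ * f jx)⁻¹ * f jt *
      ((f jy * f jx) ^ 4 * (f jy)⁻¹ * f jx))) ^ 3 := by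
  unfold ju jw
  rw [map_pow, map_mul, map_mul, map_mul, map_inv, map_mul, map_mul, map_inv, map_pow, map_mul]

theorem map_prod_map {M N : Type*} [Monoid M] [Monoid N] (φ : M →* N) (L : List ℕ) (f : ℕ → M)
    (g : ℕ → N) (h : ∀ i ∈ L, φ (f i) = g i) : φ (L.map f).prod = (L.map g).prod := by
  rw [map_list_prod, List.map_map]
  exact congrArg List.prod (List.map_congr_left h)

theorem ne_of_map_ne {G H : Type*} [Group G] [Group H] (f : G →* H) (g : G) (h : f g ≠ 1) :
    f.rangeRestrict g ≠ 1 := fun e => h (congrArg Subtype.val e)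

set_option maxRecDepth 8000 in
theorem rep_ju_ne_one : rep ju ≠ 1 := by
  intro h
  obtain ⟨ex, ey, ey', et⟩ := rep_letters
  rw [map_ju, u_word _ _ _ hx_inv] at h
  have hmap := map_prod_map (Units.coeHom (Matrix (Fin 112) (Fin 112) (ZMod 2))) uIdx
    (letter5 (rep jx) (rep jy) (rep jy)⁻¹ (rep jt)) (fun i => toMat (mat i)) (fun i hi => by
      rcases uIdx_small i hi with rfl | rfl | rfl | rfl
      · simp only [letter5, ↓reduceIte, Units.coeHom_apply]; exact ex
      · simp only [letter5, ↓reduceIte, Units.coeHom_apply, OfNat.ofNat_ne_one]; exact ey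
      · simp only [letter5, ↓reduceIte, Units.coeHom_apply, Nat.reduceEqDiff]; exact ey'
      · simp only [letter5, ↓reduceIte, Units.coeHom_apply, Nat.reduceEqDiff]; exact et)
  rw [h, map_one] at hmap
  have h1 : toMat (wordM mat uIdx) = 1 := ((toMat_wordM len_mat uIdx).2).trans hmap.symm
  have h2 := congrFun (congrFun h1 ⟨0, by omega⟩) ⟨3, by omega⟩
  rw [Matrix.one_apply_ne (by simp [Fin.ext_iff])] at h2
  unfold toMat at h2
  rw [u_check] at h2
  exact absurd h2 (by decide)

theorem x_check : eqL (mat 1) oneM = false := by decide +kernel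

theorem rep_jx_ne_one : rep jx ≠ 1 := by
  intro h
  have h2 : toMat (mat 1) = toMat oneM := by
    rw [toMat_oneM, ← rep_letters.1, h, Units.val_one]
  have h3 := x_check
  rw [toMat_inj (len_mat 1) (by simp [oneM]) (mat_lt 1) oneM_lt h2, eqL_refl] at h3
  exact absurd h3 (by decide)

/-- lower bound for the presented group -/
theorem exists_image : ∃ (Q : Type) (_ : Group Q) (_ : Finite Q) (f : J4 →* Q),
    Function.Surjective f ∧ 11 ^ 3 * 29 * 31 * 37 * 43 ∣ Nat.card Q ∧ f ju ≠ 1 ∧ f jx ≠ 1 := by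
  exact ⟨img, inferInstance, inferInstance, rep.rangeRestrict, rep.rangeRestrict_surjective,
    dvd_card_img, ne_of_map_ne rep ju rep_ju_ne_one, ne_of_map_ne rep jx rep_jx_ne_one⟩

end Cfsg.Agent.Lib.J4Low8
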