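import Mathlib
import Cfsg.Agent.Lib.J4Low8.Main

/-! Consequences of the finite image for the order of the presented group. -/

set_option autoImplicit false

namespace Cfsg.Agent.Lib.J4Low8

/-- the order of `J₄` (zero if infinite) is divisible by `11 ^ 3 * 29 * 31 * 37 * 43` -/
theorem dvd_card_J4 : 11 ^ 3 * 29 * 31 * 37 * 43 ∣ Nat.card Cfsg.Spor.J4 := by
  obtain ⟨Q, _, _, f, hf, hd, -, -⟩ := exists_image
  exact hd.trans (Subgroup.card_dvd_of_surjective f hf)

theorem ju_ne_one : ju ≠ 1 := fun h => rep_ju_ne_one ((congrArg _ h).trans (map_one _))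

theorem jx_ne_one : jx ≠ 1 := fun h => rep_jx_ne_one ((congrArg _ h).trans (map_one _))

end Cfsg.Agent.Lib.J4Low8
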